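/-
Tightly embedded subgroups and strong embedding.
-/
import Cfsg.Agent.AC.Top

set_option autoImplicit false
set_option linter.style.haveILetI false

namespace Cfsg.Agent.AC

open Subgroup MulAction Cfsg.Agent.H20 Cfsg.Agent.H21 Cfsg.Agent.BS.Bd
open scoped commutatorElement

universe u

section Defs

variable {G Ω : Type*} [Group G] [MulAction G Ω]

/-- Each point `a` carries a group of even order whose involutions fix only `a`. -/
structure TE (Q : Ω → Subgroup G) : Prop where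
  conj : ∀ (g : G) (a : Ω), ∀ x ∈ Q a, g * x * g⁻¹ ∈ Q (g • a)
  fix : ∀ a, Q a ≤ St a
  semi : ∀ a, ∀ x ∈ Q a, Iv x → ∀ c, x • c = c → c = a
  ev : ∀ a, ∃ x ∈ Q a, Iv x

/-- The involutions of the groups `Q c`. -/
def Dq (Q : Ω → Subgroup G) : Set G := {x | Iv x ∧ ∃ c, x ∈ Q c}

theorem Iv.mul {u v : G} (hu : Iv u) (hv : Iv v) (hne : u ≠ v) (e : u * v = v * u) : Iv (u * v) :=
  ⟨fun e1 => hne (mul_right_cancel (e1.trans hv.2.symm)), by
    rw [mul_assoc, ← mul_assoc v, ← e, mul_assoc, hv.2, mul_one, hu.2]⟩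

theorem mem_ker_iff {g : G} : g ∈ (toPermHom G Ω).ker ↔ ∀ c : Ω, g • c = c := Equiv.ext_iff

namespace TE

variable {Q : Ω → Subgroup G} (h : TE Q)
include h

theorem mem {x : G} (hx : x ∈ Dq Q) {a : Ω} (ha : x • a = a) : x ∈ Q a := by
  obtain ⟨h1, c, hc⟩ := hx
  exact h.semi c x hc h1 a ha ▸ hc

theorem ze : ZE Ω (Dq Q) := by
  refine ⟨fun _ hu => hu.1, fun u ⟨h1, c, hc⟩ g => ⟨h1.conj g, _, h.conj g c u hc⟩,
    fun u ⟨_, c, hc⟩ => ⟨c, h.fix c hc⟩, fun u ⟨h1, c, hc⟩ a b ha hb => ?_, fun u ⟨h1, c, hc⟩ v hv hne e a b ha hb => ?_⟩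
  · rw [h.semi c u hc h1 a ha, h.semi c u hc h1 b hb]
  · have h2 := mul_mem hc (h.mem hv (h.semi c u hc h1 _ (by rw [← mul_smul, e, mul_smul, h.fix c hc])))
    rw [h.semi c _ h2 (Iv.mul h1 hv.1 hne e) a ha, h.semi c _ h2 (Iv.mul h1 hv.1 hne e) b hb]

theorem evd (a : Ω) : EvD (Dq Q) ⊤ a := by
  obtain ⟨x, h1, h2⟩ := h.ev a
  exact ⟨x, trivial, ⟨h2, a, h1⟩, h.fix a h1⟩

variable [Finite G]

theorem norm (a : Ω) : St a ≤ N⟦Q a⟧ := fun g hg => mem_norm_of_forall fun x hx => by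
  have := h.conj g a x hx
  rwa [hg] at this

theorem le_sup {Y : Subgroup G} {a : Ω} (hY : ∀ c, Orb Y a c) : ⨆ c, Q c ≤ Y ⊔ Q a := iSup_le fun c x hx => by
  obtain ⟨g, hg, rfl⟩ := hY c
  have h1 := h.conj g⁻¹ _ x hx
  rw [inv_smul_smul] at h1
  simpa [mul_assoc] using mul_mem (mul_mem (mem_sup_left hg) (mem_sup_right h1)) (inv_mem (mem_sup_left hg))

theorem nt_of_not_two (h2 : ¬ TwD (Dq Q) ⊤) : NT Ω (⨆ c, Q c) := fun v hv h1 a b hab ha hb => by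
  haveI := Fact.mk Nat.prime_two
  by_contra h3
  obtain ⟨z, -, hz, hza⟩ := h.evd a
  obtain ⟨S, hS⟩ := exists_sylowOf (p := 2) (Q a)
  have h4 := h.le_sup (Y := Oc ⊤) (a := a) (fun c => by
    obtain ⟨g, -, rfl⟩ := h.ze.orb_of_even (h.evd a) (h.evd c)
    obtain ⟨o, ho, c, -, e, rfl⟩ := (h.ze.iso_of_not_two hz (mem_top z) h2).2 g trivial
    exact ⟨o, ho, by rw [mul_smul, h.ze.fix_of_comm hz hza e]⟩) hv
  rw [sup_comm] at h4
  obtain ⟨g, -, h5⟩ := Hall.exists_cj_le (Hall.sup_compl_right hS (isPi_piCoreOf _ _)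
    (Or.inl (le_top.trans (Oc_norm ⊤)))) (Iv.el2 ⟨h3, h1⟩).isPGroup (zpowers_le.2 h4)
  have h6 := h.ze.conj' ⟨Iv.conj ⟨h3, h1⟩ g, a, Hall.le hS (h5 (conj_mem_cj.2 (mem_zpowers v)))⟩ g
  simp only [mul_assoc, inv_mul_cancel, mul_one, inv_mul_cancel_left] at h6
  exact hab (h.ze.uniq v h6 a b ha hb)

end TE

end Defs

theorem ZE.exists_K_inv {G Ω : Type*} [Group G] [Finite G] [MulAction G Ω] {D : Set G} (h : ZE Ω D)
    (h2 : TwD D ⊤) {a : Ω} (he : EvD D ⊤ a) {t v : G} (ht : t ∈ D) (hta : a ≠ t • a) (hv : Iv v) (ha : v • a = a)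
    (e : t * v = v * t) : ∃ k ∈ KK a t, k ≠ 1 ∧ (v * k * v⁻¹ = k ∨ v * k * v⁻¹ = k⁻¹) := by
  haveI := Fact.mk Nat.prime_two
  by_contra hc
  push Not at hc
  have hi := h.iv t ht
  have hne : t ≠ v := fun e1 => hta (by rw [e1, ha])
  obtain ⟨v1, v2, v3, -⟩ := four_group hi hv hne e
  have hI := h.iso_D ht hta
  have hvO : v ∈ N⟦Oc (St a ⊓ St (t • a) : Subgroup G)⟧ :=
    Oc_norm _ ⟨ha, show v • t • a = t • a by rw [← mul_smul, ← e, mul_smul, ha]⟩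
  have key : ∀ g, g * t = t * g → (∀ y, y * g = g * y → t * y * t⁻¹ = y⁻¹ → v * y * v⁻¹ = y ∨ v * y * v⁻¹ = y⁻¹) →
      Oc (St a ⊓ St (t • a)) ⊓ C₁⟦g⟧ ≤ C₁⟦t⟧ := fun g h3 h4 =>
    le_cent_of_no_inv hi (H21.odd_of_le (odd_oddCore _) inf_le_left) (norm_inf (zp_norm hI.oc)
      (zp_norm (le_norm_self _ (mem_cent1.2 h3.symm))) (mem_zpowers t)) fun y hy h5 => by_contra fun h6 =>
        (h4 y (mem_cent1.1 hy.2) h5).elim (hc y ⟨hy.1, h5⟩ h6).1 (hc y ⟨hy.1, h5⟩ h6).2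
  have h3 : Oc (St a ⊓ St (t • a)) ≤ C₁⟦t⟧ := BG.coprime_abelian_gen_cent1 v1 v2
    (sup_le (zp_norm hI.oc) (zp_norm hvO)) (coprime_of_isPGroup v3 (Nat.coprime_two_right.2 (odd_oddCore _))).symm
    fun g hg hg1 => by
      obtain ⟨x, hx, y, hy, rfl⟩ := (mem_sup_of_norm (norm_of_cent (zpowers_le_cent_iff.2 (by
        rw [cent_zpowers]; exact mem_cent1.2 e)))).1 hg
      have key2 : ∀ {x u : G}, Iv x → u ∈ zpowers x → u = 1 ∨ u = x := fun {x u} hx hu => by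
        obtain ⟨k, rfl⟩ := mem_zpowers_iff.1 hu
        have h2 : x ^ (2 : ℤ) = 1 := by rw [zpow_two, hx.2]
        rcases Int.even_or_odd' k with ⟨m, rfl | rfl⟩
        · left; rw [zpow_mul, h2, one_zpow]
        · right; rw [zpow_add, zpow_mul, h2, one_zpow, one_mul, zpow_one]
      rcases key2 hi hx with rfl | rfl <;> rcases key2 hv hy with rfl | rfl
      · exact absurd (mul_one 1) hg1
      · rw [one_mul]
        exact key _ e.symm fun z h4 _ => Or.inl (by rw [← h4, mul_inv_cancel_right])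
      · rw [mul_one]; exact inf_le_right
      · refine key _ (by rw [mul_assoc, ← e]) fun z h4 h5 => Or.inr ?_
        calc y * z * y⁻¹ = x⁻¹ * (x * y * z) * y⁻¹ := by group
          _ = _ := by rw [← h4, ← h5, hi.inv]; group
  obtain ⟨x, hx, y, hy, h4, h5, h6, -⟩ := h.two_at h2 he
  obtain ⟨k, -, hk, rfl⟩ := h.exists_K_conj ht (mem_top t) hta h4 trivial hx.2 h5 trivial hy.2
  exact h6 (by rw [eq_one_of_inv_comm (h.odd_KK hk) hk.2 (mem_cent1.1 (h3 hk.1))]; group)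

namespace TE

variable {G Ω : Type u} [Group G] [Finite G] [MulAction G Ω] {Q : Ω → Subgroup G} (h : TE Q)
  (h2 : TwD (Dq Q) ⊤) (hO : Oc (toPermHom G Ω).ker = ⊥) {a b : Ω} (hab : a ≠ b)
include h h2 hO hab

omit h2 in
theorem eq_one {c : Ω} {x : G} (hx : x ∈ Q c) (hk : ∀ e : Ω, x • e = e) : x = 1 := by
  refine hO.le (le_oddCore (O := Q c ⊓ (toPermHom G Ω).ker) ⟨inf_le_right, norm_inf
    (fun g hg => h.norm c (mem_ker_iff.1 hg c)) (le_norm_self _)⟩ (by_contra fun ho => ?_) ⟨hx, mem_ker_iff.2 hk⟩)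
  obtain ⟨u, hu, h1⟩ := exists_iv ho
  exact hab ((h.semi c u hu.1 h1 a (mem_ker_iff.1 hu.2 a)).trans (h.semi c u hu.1 h1 b (mem_ker_iff.1 hu.2 b)).symm)

omit h2 hO in
theorem not_le (c : Ω) : ¬ (⊤ : Subgroup G) ≤ St c := fun e => by
  obtain ⟨x, -, h1⟩ := h.ze.orb_of_even (h.evd c) (h.evd a)
  obtain ⟨y, -, h3⟩ := h.ze.orb_of_even (h.evd c) (h.evd b)
  exact hab (h1.symm.trans ((e (mem_top x)).trans ((e (mem_top y)).symm.trans h3)))

theorem abAt (c : Ω) : AbAt (Dq Q) c := fun s hs s' hs' h1 h3 => by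
  obtain ⟨U, hU, -⟩ := h.ze.exists_FD (h.evd c) (h.not_le hab c) h2 (main h.ze (h.evd c) (h.not_le hab c) h2)
  exact commutatorElement_eq_one_iff_mul_comm.1 (h.eq_one hO hab (mul_mem (mul_mem (mul_mem (h.mem hs h1)
    (h.mem hs' h3)) (inv_mem (h.mem hs h1))) (inv_mem (h.mem hs' h3))) fun e =>
      (hU.cm s hs trivial h1 s' (hU.mem s' hs' trivial h3)).2 e (h.ze.orb_of_even (h.evd c) (h.evd e)))

theorem nt_LD : NT Ω (LD (Dq Q) ⊤) := fun v hv h1 c d hcd hc hd => by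
  refine Shult.sub shult (A := fun c : Ω => closure (Da (Dq Q) c)) ⟨fun g a x hx => ?_,
    fun a x hx => h.ze.A0_sq (h.abAt h2 hO hab a) hx, fun a x hx => A0_le hx, fun a x hx c h3 h4 => by_contra fun h5 =>
      h4 (h.semi a x ((closure_le _).2 (fun y hy => h.mem hy.1 hy.2) hx)
        ⟨h5, h.ze.A0_sq (h.abAt h2 hO hab a) hx⟩ c h3), fun a e => ?_⟩ ((closure_le _).2 (fun x hx => ?_) hv) h1 hcd hc hd
  · exact (closure_le ((closure (Da (Dq Q) (g • a))).comap (MulAut.conj g).toMonoidHom)).2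
      (fun y hy => subset_closure (h.ze.conj_Da hy g)) hx
  · obtain ⟨x, -, h3, h4⟩ := h.evd a
    exact h3.1.1 (e.le (subset_closure ⟨h3, h4⟩))
  · obtain ⟨e, he⟩ := h.ze.ex x hx.1
    exact le_iSup (fun c : Ω => closure (Da (Dq Q) c)) e (subset_closure ⟨hx.1, he⟩)

theorem el2_eq_one {d : G} (hd : d ∈ LD (Dq Q) ⊤) (h1 : El2 d) (ha : d • a = a) (hb : d • b = b) : d = 1 := by
  by_contra h3
  obtain ⟨u, hu, h4⟩ := h1.exists_iv h3
  exact h4.1 (h.nt_LD h2 hO hab u (zpowers_le.2 hd hu) h4.2 a b hab (zpowers_le.2 (mem_St.2 ha) hu)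
    (zpowers_le.2 (mem_St.2 hb) hu))

theorem exists_U : ∃ U ≤ LD (Dq Q) ⊤, IsPGroup 2 U ∧ U ≤ St a ∧ St a ≤ N⟦U⟧ ∧ ∀ c, c ≠ a → ∃ u ∈ U, u • b = c := by
  haveI := Fact.mk Nat.prime_two
  have he := (h.evd a).ld
  have hL := h.ze.not_le_LD (h.evd a) (h.not_le hab a)
  obtain ⟨U, hU, -⟩ := h.ze.exists_FD he hL h2.ld (main h.ze he hL h2.ld)
  have ho : ∀ c, Orb (LD (Dq Q) ⊤) a c := fun c => h.ze.orb_of_even he (h.evd c).ld
  have h1 : IsPGroup 2 U := isPGroup_of_el2 fun x hx => by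
    obtain ⟨s, h3, h4, h5⟩ := exists_el2 x
    have h6 := hU.odd _ (mul_mem (inv_mem (zpowers_le.2 hx h3)) hx) h5
    have h7 : s⁻¹ * x = 1 := hO.le (le_oddCore (O := LD (Dq Q) ⊤ ⊓ (toPermHom G Ω).ker) ⟨inf_le_right, norm_inf
      (le_top.trans h.ze.LD_norm) (le_norm_self _)⟩ (by_contra fun h7 => by
        obtain ⟨u, hu, h8⟩ := exists_iv h7
        exact h8.1 (h.nt_LD h2 hO hab u hu.1 h8.2 a b hab (mem_ker_iff.1 hu.2 a) (mem_ker_iff.1 hu.2 b)))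
      ⟨h6.1, mem_ker_iff.2 fun c => h6.2 c (ho c)⟩)
    rwa [← inv_mul_eq_one.1 h7]
  have h3 : ∀ c, c ≠ a → ∃ u ∈ U, u • b = c := fun c => hU.tr b c (ho b) (ho c) hab.symm
  refine ⟨U, hU.le, h1, hU.fix, fun g hg => mem_norm_of_forall fun x hx => ?_, h3⟩
  have h4 := conj_mem_of_norm (h.ze.LD_norm (mem_top g)) (hU.le hx)
  have h5 := iv_conj_fix hg (hU.fix hx)
  have h6 := (el2_of_mem h1 hx).conj g
  generalize g * x * g⁻¹ = y at h4 h5 h6
  obtain ⟨u, hu, e⟩ := h3 _ (smul_ne_of_fix h5 hab.symm)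
  rw [← inv_mul_eq_one.1 (h.el2_eq_one h2 hO hab (mul_mem (inv_mem (hU.le hu)) h4) (el2_of_mem
    (h1.to_sup_of_normal_left' h6.isPGroup (zp_norm (hU.norm y h4 h5)))
    (mul_mem (inv_mem (mem_sup_left hu)) (mem_sup_right (mem_zpowers y))))
    (by rw [mul_smul, h5, inv_fix (hU.fix hu)]) (by rw [mul_smul, ← e, inv_smul_smul]))]
  exact hu

theorem mem_of_sq {s : G} (hs : s ∈ Q a) (h1 : El2 s) (h3 : s * s ∈ LD (Dq Q) ⊤) : s ∈ LD (Dq Q) ⊤ := by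
  haveI := Fact.mk Nat.prime_two
  obtain ⟨U, hUL, hU, hUa, hUn, htr⟩ := h.exists_U h2 hO hab
  have hsa : s • a = a := h.fix a hs
  obtain ⟨u, hu, e⟩ := htr _ (smul_ne_of_fix hsa hab.symm)
  obtain ⟨v, rfl⟩ : ∃ v, s = u * v := ⟨u⁻¹ * s, by group⟩
  have hva : v • a = a := (mul_mem_cancel_left (hUa hu)).1 hsa
  have hvb : v • b = b := by rwa [mul_smul, smul_left_cancel_iff, eq_comm] at e
  have h4 : v * v = 1 := by
    refine h.el2_eq_one h2 hO hab ?_ (el2_of_mem (hU.to_sup_of_normal_left' h1.isPGroup (zp_norm (hUn hsa)))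
      (mul_mem ?_ ?_)) (by rw [mul_smul, hva, hva]) (by rw [mul_smul, hvb, hvb])
    · have := mul_mem (inv_mem (hUL (mul_mem hu (conj_mem_of_norm (hUn hva) hu)))) h3
      convert this using 1
      group
    all_goals exact (mul_mem_cancel_left (mem_sup_left hu)).1 (mem_sup_right (mem_zpowers _))
  by_cases h5 : v = 1
  · rw [h5, mul_one]; exact hUL hu
  refine (hab (h.semi a v ((mul_mem_cancel_left ?_).1 hs) ⟨h5, h4⟩ b hvb).symm).elim
  obtain ⟨t, ht, rfl, h6⟩ := h.ze.exists_comm_swap h.evd hab h4 (Or.inl ⟨hva, hvb⟩)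
  have hz : ZE Ω {x | Iv x ∧ x ∈ LD (Dq Q) ⊤ ∧ ∃ c : Ω, x • c = c} :=
    ⟨fun _ hx => hx.1, fun x ⟨h7, h8, c, hc⟩ g => ⟨h7.conj g, conj_mem_of_norm (h.ze.LD_norm trivial) h8, _, conj_smul hc⟩,
      fun _ hx => hx.2.2, fun x hx c d hc hd => by_contra fun h7 => hx.1.1 (h.nt_LD h2 hO hab x hx.2.1 hx.1.2 c d h7 hc hd),
      fun x hx y hy hne e c d hc hd => by_contra fun h7 => (Iv.mul hx.1 hy.1 hne e).1
        (h.nt_LD h2 hO hab _ (mul_mem hx.2.1 hy.2.1) (Iv.mul hx.1 hy.1 hne e).2 c d h7 hc hd)⟩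
  have hf : ∀ k ∈ KK a t, k ≠ 1 → ∀ y ∈ U, y * k = k * y → y = 1 := fun k hk h7 y hy e => by_contra fun h8 => by
    obtain ⟨i, hi, h9⟩ := (el2_of_mem hU hy).exists_iv h8
    have h10 := zpowers_le.2 hy hi
    exact h7 (hz.K_eq_one ⟨ht.1, mem_LD ht trivial, h.ze.ex t ht⟩ hab hk ⟨h9, hUL h10, a, hUa h10⟩ (hUa h10)
      (mem_cent1.1 (zpowers_le.2 (mem_cent1.2 e) hi)).symm)
  obtain ⟨k, hk, h7, h8⟩ := h.ze.exists_K_inv h2 (h.evd a) ht hab ⟨h5, h4⟩ hva (mem_cent1.1 h6)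
  have hka := KK.fixa hk
  have h9 := mul_mem hs (conj_mem_of_norm (h.norm a hka) (inv_mem hs))
  rcases h8 with h8 | h8
  · have h10 : u * v * (k * (u * v)⁻¹ * k⁻¹) = u * (k * u⁻¹ * k⁻¹) := by nth_rewrite 3 [← h8]; group
    rw [h10] at h9
    obtain ⟨y, hy, e⟩ := BS.PB.exists_comm_of_fpf (Y := Q a ⊓ U) (k := k)
      (fun y hy => ⟨conj_mem_of_norm (h.norm a hka) hy.1, conj_mem_of_norm (hUn hka) hy.2⟩)
      (fun y hy => hf k hk h7 y hy.2) ⟨h9, mul_mem hu (conj_mem_of_norm (hUn hka) (inv_mem hu))⟩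
    rw [eq_inv_of_mul_eq_one_right (hf k hk h7 _ (mul_mem hy.2 hu) (by
      calc y * u * k = y * (u * (k * u⁻¹ * k⁻¹)) * k * u := by group
        _ = _ := by rw [e]; group))]
    exact inv_mem hy.1
  · have h10 : u * v * (k * (u * v)⁻¹ * k⁻¹) = u * (k⁻¹ * u⁻¹ * k) * (k ^ 2)⁻¹ := by
      rw [show u * v * (k * (u * v)⁻¹ * k⁻¹) = u * (v * k * v⁻¹) * u⁻¹ * k⁻¹ by group, h8]; group
    rw [h10] at h9
    have h11 := H15.RO.inv_mem_invertedBy (H15.RO.pow_mem_invertedBy hk 2)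
    have h12 : (k ^ 2)⁻¹ ≠ 1 := fun e => h7 (H11.eq_one_of_odd_of_sq (h.ze.odd_KK hk) (by rw [← pow_two, inv_eq_one.1 e]))
    have h13 := mul_mem hu (conj_mem_of_norm' (hUn hka) (inv_mem hu))
    generalize (k ^ 2)⁻¹ = w at h9 h11 h12
    have h14 := fun x => BS.PB.exists_comm_of_fpf (x := x) (fun y => conj_mem_of_norm (hUn (KK.fixa h11)))
      (hf w h11 h12)
    obtain ⟨x, hx, e⟩ := h14 _ h13
    obtain ⟨y, hy, rfl⟩ := h14 _ hu
    have h15 : w ∈ Q a := by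
      have := conj_mem_of_norm (h.norm a (hUa hx)) h9
      rw [e] at this
      convert this using 1
      group
    have := mul_mem (conj_mem_of_norm' (h.norm a (hUa hy)) h15) (inv_mem h15)
    convert this using 1
    group

theorem nt_main : NT Ω (⨆ c, Q c) := fun v hv h1 => by
  have hL := h.ze.LD_norm (X := ⊤)
  have h3 : ∀ n, ∀ s ∈ Q a, s ^ 2 ^ n = 1 → s ∈ LD (Dq Q) ⊤ := fun n => by
    induction n with
    | zero => intro s _ e; rw [pow_zero, pow_one] at e; exact e ▸ one_mem _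
    | succ n ih =>
      exact fun s hs e => h.mem_of_sq h2 hO hab hs ⟨_, e⟩ (ih _ (mul_mem hs hs) (by rwa [← pow_two, ← pow_mul, ← pow_succ']))
  obtain ⟨l, hl, q, hq, rfl⟩ := (mem_sup_of_norm' (le_top.trans hL)).1
    (h.le_sup (fun c => h.ze.orb_of_even (h.evd a).ld (h.evd c).ld) hv)
  obtain ⟨s, h4, ⟨n, hn⟩, h5⟩ := exists_el2 q
  have h6 := h3 n s (zpowers_le.2 hq h4) hn
  refine h.nt_LD h2 hO hab _ (mul_mem hl ((mul_mem_cancel_left (inv_mem h6)).1 (mem_of_sq_mem h5 ?_))) h1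
  have := mul_mem (mul_mem (inv_mem h6) (conj_mem_of_norm (hL (mem_top q)) (inv_mem h6)))
    (inv_mem (mul_mem hl (conj_mem_of_norm (hL (mem_top q)) hl)))
  rw [← eq_inv_of_mul_eq_one_right (show l * (q * l * q⁻¹) * (q * q) = 1 by rw [← h1]; group)] at this
  convert this using 1
  group

end TE

theorem te_aux (n : ℕ) : ∀ (G Ω : Type u) [Group G] [Finite G] [MulAction G Ω] (Q : Ω → Subgroup G),
    Nat.card G = n → TE Q → NT Ω (⨆ c, Q c) := by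
  induction n using Nat.strong_induction_on with
  | _ n IH =>
  intro G Ω _ _ _ Q hn h v hv h1 a b hab ha hb
  by_cases h2 : TwD (Dq Q) ⊤
  swap
  · exact h.nt_of_not_two h2 v hv h1 a b hab ha hb
  by_cases hO : Oc (toPermHom G Ω).ker = ⊥
  · exact h.nt_main h2 hO hab v hv h1 a b hab ha hb
  have ho : Odd ♯(Oc (toPermHom G Ω).ker) := odd_oddCore _
  have hle := Oc_le (toPermHom G Ω).ker
  haveI : (Oc (toPermHom G Ω).ker).Normal :=
    normalizer_eq_top_iff.1 (top_le_iff.1 (norm_piCoreOf _ (normalizer_eq_top _).ge))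
  generalize Oc (toPermHom G Ω).ker = O at *
  letI : MulAction (G ⧸ O) Ω := MulAction.compHom Ω (QuotientGroup.lift O (toPermHom G Ω) hle)
  have hs : ∀ (g : G) (c : Ω), (g : G ⧸ O) • c = g • c := fun _ _ => rfl
  have h3 := IH _ (hn ▸ H1.card_quotient_lt hO) (G ⧸ O) Ω (fun c => (Q c).map (QuotientGroup.mk' O)) rfl ⟨?_, ?_, ?_, ?_⟩
    (v : G ⧸ O) (Subgroup.map_iSup (QuotientGroup.mk' O) Q ▸ mem_map_of_mem _ hv)
    (by rw [← QuotientGroup.mk_mul, h1]; rfl) a b hab ha hb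
  · exact by_contra fun h4 => Iv.not_mem ⟨h4, h1⟩ ho ((QuotientGroup.eq_one_iff v).1 h3)
  · rintro g c _ ⟨x, hx, rfl⟩
    obtain ⟨g, rfl⟩ := QuotientGroup.mk_surjective g
    exact ⟨_, h.conj g c x hx, rfl⟩
  · rintro c _ ⟨x, hx, rfl⟩
    exact h.fix c hx
  · rintro c _ ⟨x, hx, rfl⟩ h4 d hd
    obtain ⟨u, hu, h5⟩ := exists_iv_zpowers (g := x) fun h5 => h4.1 ((QuotientGroup.eq_one_iff x).2
      (mem_of_sq_mem h5 ((QuotientGroup.eq_one_iff _).1 h4.2)))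
    exact h.semi c u (zpowers_le.2 hx hu) h5 d (zpowers_le.2 (show x ∈ St d from hd) hu)
  · intro c
    obtain ⟨x, hx, h4⟩ := h.ev c
    exact ⟨x, ⟨x, hx, rfl⟩, fun e => h4.not_mem ho ((QuotientGroup.eq_one_iff x).1 e),
      by rw [← QuotientGroup.mk_mul, h4.2]; rfl⟩

theorem TE.nt {G Ω : Type u} [Group G] [Finite G] [MulAction G Ω] {Q : Ω → Subgroup G} (h : TE Q) :
    NT Ω (⨆ c, Q c) := te_aux _ G Ω Q rfl h

end Cfsg.Agent.AC
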